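import Cfsg.Agent.Omega.EK3.Star

/-!
# RWide [B]: LEMMA PERM (paper: bb OMEGA #23931, helper892)

Pure group theory. `V = ∏ W b` el. ab., `Z b < W b`, `B` acts on `V` as the product of the full root groups of `W b` with
centres `Z b` (`|W b : Z b| = |Z b|`), `A b ∈ AA O` (`O` any subgroup) induces the full root group of `W b` and centralises
the other `W c`; `Q = C_B(V)`, `B = Q ⟨A b⟩`, the involutions of `O` which centralise `B` lie in `ZJ = ∏ Z b`; `N 0`, `N 1`
el. ab., `W b ≤ N (side b) ≤ O`, and for every `c` some `l` normalises `Q`, `N (side c)`, `W c`, centralises the other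
`W d` and moves `Z c` to a complement in `W c`.

`x ∈ N(B) ∩ N(O) ∩ N(ZJ) ∩ N(N 0) ∩ N(N 1)` which fixes on each side a vector of full support permutes `{Z b : side b = i}`:

* `one` : `W bˣ` moves `V`; `two` : `W bˣ ≤ V`; `three` : `O ∩ Ω₁Z(Q) ≤ V`; `four`; **`perm`**.
-/

set_option autoImplicit false
set_option linter.unusedSectionVars false
set_option linter.unusedVariables false

namespace Cfsg.Agent.Omega.RW.Perm

open Subgroup Cfsg Cfsg.Agent.ZN.ChoiceBase
open Cfsg.Agent.Omega.EK3.Star (rank_cent rank_le le_sup_of_exact le_cent cent_symm el_mono card_mul_relIndex)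
open scoped commutatorElement

universe u

variable {G : Type u} [Group G]

/-! ### counting -/

theorem relIndex_sup [Finite G] {A B : Subgroup G} (hc : A ≤ centralizer (B : Set G)) :
    B.relIndex (A ⊔ B) = B.relIndex A := by
  have h2 := NoFF.ThmJFam.card_sup_inf (A := A) (B := B) hc
  have h3 := card_mul_relIndex (le_sup_right : B ≤ A ⊔ B)
  have h4 := card_mul_relIndex (inf_le_left : A ⊓ B ≤ A)
  rw [inf_relIndex_left] at h4
  have p1 : 0 < Nat.card B := Nat.card_pos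
  have p2 : 0 < Nat.card (A ⊓ B : Subgroup G) := Nat.card_pos
  apply Nat.eq_of_mul_eq_mul_left (Nat.mul_pos p1 p2)
  calc Nat.card B * Nat.card (A ⊓ B : Subgroup G) * B.relIndex (A ⊔ B)
      = Nat.card B * B.relIndex (A ⊔ B) * Nat.card (A ⊓ B : Subgroup G) := by ring
    _ = Nat.card A * Nat.card B := by rw [h3, h2]
    _ = Nat.card (A ⊓ B : Subgroup G) * B.relIndex A * Nat.card B := by rw [h4]
    _ = _ := by ring

theorem relIndex_eq_of_le_sup [Finite G] {K L C : Subgroup G} (hL : L ≤ centralizer (L : Set G)) (hKL : K ≤ L)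
    (h : L ≤ K ⊔ (L ⊓ C)) : C.relIndex L = C.relIndex K := by
  have e : L = K ⊔ (L ⊓ C) := le_antisymm h (sup_le hKL inf_le_left)
  have h1 : (L ⊓ C).relIndex (K ⊔ (L ⊓ C)) = (L ⊓ C).relIndex K :=
    relIndex_sup (hKL.trans (hL.trans (centralizer_le inf_le_left)))
  rw [← e] at h1
  rw [inf_relIndex_left] at h1
  rw [h1, ← inf_relIndex_right (L ⊓ C), ← inf_relIndex_right C]
  congr 1
  exact le_antisymm (inf_le_inf_right _ inf_le_right) (le_inf (le_inf (inf_le_right.trans hKL) inf_le_left) inf_le_right)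

theorem comm_eq_iff {w a a' : G} : ⁅w, a⁆ = ⁅w, a'⁆ ↔ a⁻¹ * a' ∈ centralizer ({w} : Set G) := by
  rw [mem_centralizer_singleton_iff, commutatorElement_def, commutatorElement_def]
  constructor
  · intro h
    have h1 : a * w⁻¹ * a⁻¹ = a' * w⁻¹ * a'⁻¹ := by
      have h2 := congrArg (fun t => w⁻¹ * t) h
      simpa [mul_assoc] using h2
    have h3 : a * w * a⁻¹ = a' * w * a'⁻¹ := by
      have := congrArg (fun t => t⁻¹) h1
      simpa [mul_assoc] using this
    calc a⁻¹ * a' * w = a⁻¹ * (a' * w * a'⁻¹) * a' := by group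
      _ = a⁻¹ * (a * w * a⁻¹) * a' := by rw [h3]
      _ = w * (a⁻¹ * a') := by group
  · intro h
    have h3 : a' * w * a'⁻¹ = a * w * a⁻¹ := by
      calc a' * w * a'⁻¹ = a * (a⁻¹ * a' * w) * a'⁻¹ := by group
        _ = a * (w * (a⁻¹ * a')) * a'⁻¹ := by rw [h]
        _ = a * w * a⁻¹ := by group
    calc w * a * w⁻¹ * a⁻¹ = w * (a * w * a⁻¹)⁻¹ := by group
      _ = w * (a' * w * a'⁻¹)⁻¹ := by rw [h3]
      _ = w * a' * w⁻¹ * a'⁻¹ := by group

theorem relIndex_cent_le [Finite G] {A Z : Subgroup G} {w : G} (h : ∀ a ∈ A, ⁅w, a⁆ ∈ Z) :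
    (centralizer ({w} : Set G)).relIndex A ≤ Nat.card Z := by
  unfold Subgroup.relIndex Subgroup.index
  let f : A ⧸ (centralizer ({w} : Set G)).subgroupOf A → Z :=
    Quotient.lift (fun a : A => (⟨⁅w, (a : G)⁆, h a a.2⟩ : Z)) (by
      intro a b hab
      have h1 : a⁻¹ * b ∈ (centralizer ({w} : Set G)).subgroupOf A := QuotientGroup.leftRel_apply.1 hab
      exact Subtype.ext (comm_eq_iff.2 (mem_subgroupOf.1 h1)))
  refine Nat.card_le_card_of_injective f ?_
  intro p q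
  induction p using QuotientGroup.induction_on with
  | H a =>
    induction q using QuotientGroup.induction_on with
    | H b =>
      intro hab
      have h1 : ⁅w, (a : G)⁆ = ⁅w, (b : G)⁆ := congrArg Subtype.val hab
      exact QuotientGroup.eq.2 (mem_subgroupOf.2 (comm_eq_iff.1 h1))

theorem le_relIndex_cent [Finite G] {A Z : Subgroup G} {w : G} (h : ∀ z ∈ Z, ∃ a ∈ A, ⁅w, a⁆ = z) :
    Nat.card Z ≤ (centralizer ({w} : Set G)).relIndex A := by
  unfold Subgroup.relIndex Subgroup.index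
  have h' : ∀ z : Z, ∃ a : A, ⁅w, (a : G)⁆ = z := fun z => by
    obtain ⟨a, ha, e⟩ := h z z.2
    exact ⟨⟨a, ha⟩, e⟩
  choose f hf using h'
  refine Nat.card_le_card_of_injective (fun z => (f z : A ⧸ (centralizer ({w} : Set G)).subgroupOf A)) ?_
  intro z z' e
  have h1 := mem_subgroupOf.1 (QuotientGroup.eq.1 e)
  have h2 : ⁅w, (f z : G)⁆ = ⁅w, (f z' : G)⁆ := comm_eq_iff.2 h1
  rw [hf, hf] at h2
  exact Subtype.ext h2

theorem comm_mul_left {w w' g : G} (h : ⁅w', g⁆ * w = w * ⁅w', g⁆) : ⁅w * w', g⁆ = ⁅w', g⁆ * ⁅w, g⁆ := by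
  have e : ⁅w * w', g⁆ = w * ⁅w', g⁆ * w⁻¹ * ⁅w, g⁆ := by
    simp only [commutatorElement_def]; group
  rw [e, ← h]; group

theorem comm_conj {x w g : G} : ⁅x * w * x⁻¹, g⁆ = x * ⁅w, x⁻¹ * g * x⁆ * x⁻¹ := by
  simp only [commutatorElement_def]; group

theorem comm_eq_one {w g : G} : ⁅w, g⁆ = 1 ↔ g * w = w * g := by
  rw [commutatorElement_eq_one_iff_mul_comm]
  exact eq_comm

theorem isEl_zc (Q : Subgroup G) : IsElementaryAbelian 2 (ZN.zc Q) := by
  refine ⟨⟨⟨fun x y => ?_⟩⟩, fun a ha => (mem_zc.1 ha).2.1⟩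
  exact Subtype.ext ((mem_zc.1 y.2).2.2 x (mem_zc.1 x.2).1)

variable {ι : Type*}

/-- the product of the other blocks -/
def Vc (W : ι → Subgroup G) (c : ι) : Subgroup G := ⨆ d : {d // d ≠ c}, W d

theorem le_Vc {W : ι → Subgroup G} {c d : ι} (h : d ≠ c) : W d ≤ Vc W c :=
  le_iSup (fun d : {d // d ≠ c} => W d) ⟨d, h⟩

/-- **The input.** -/
structure PIn (B Q V O ZJ : Subgroup G) (side : ι → Fin 2) (W Z A : ι → Subgroup G) (N : Fin 2 → Subgroup G) :
    Prop where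
  /-- the module `V = ∏ W b` -/
  el : IsElementaryAbelian 2 V
  WV : ∀ b, W b ≤ V
  sup : V ≤ ⨆ b, W b
  dis : ∀ b, W b ⊓ Vc W b = ⊥
  ZW : ∀ b, Z b ≤ W b
  Zne : ∀ b, Z b ≠ ⊥
  ZJ_eq : ZJ = ⨆ b, Z b
  card : ∀ b, (Z b).relIndex (W b) = Nat.card (Z b)
  VB : V ≤ B
  VO : V ≤ O
  Q_eq : Q = B ⊓ centralizer (V : Set G)
  /-- `B` acts on `W b` through the root group with centre `Z b` -/
  root : ∀ b, ∀ g ∈ B, ∀ w ∈ W b, ⁅w, g⁆ ∈ Z b
  BZ : ∀ b, B ≤ centralizer (Z b : Set G)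
  fullg : ∀ b, ∀ g ∈ B, g ∉ centralizer (W b : Set G) → ∀ z ∈ Z b, ∃ w ∈ W b, ⁅w, g⁆ = z
  fixg : ∀ b, ∀ g ∈ B, g ∉ centralizer (W b : Set G) → ∀ w ∈ W b, g * w = w * g → w ∈ Z b
  /-- the groups `A b` -/
  AB : ∀ b, A b ≤ B
  AO : ∀ b, A b ∈ AA O
  AC : ∀ b c, c ≠ b → A b ≤ centralizer (W c : Set G)
  fullw : ∀ b, ∀ w ∈ W b, w ∉ Z b → ∀ z ∈ Z b, ∃ a ∈ A b, ⁅w, a⁆ = z
  gen : B ≤ Q ⊔ ⨆ b, A b
  /-- `Ω₁(C_O(B)) ≤ ZJ` -/
  zO : ∀ n ∈ O, n ^ 2 = 1 → (∀ g ∈ B, g * n = n * g) → n ∈ ZJ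
  /-- the normal closures `N 0`, `N 1` -/
  Nel : ∀ i, IsElementaryAbelian 2 (N i)
  NO : ∀ i, N i ≤ O
  WN : ∀ b, W b ≤ N (side b)
  BN : ∀ i, B ≤ normalizer (N i : Set G)
  /-- an element of the block group moving `Z c` -/
  ll : ∀ c, ∃ l : G, l ∈ normalizer (Q : Set G) ∧ l ∈ normalizer (W c : Set G) ∧ (∀ v ∈ Vc W c, l * v = v * l) ∧
    Z c ⊓ cj l (Z c) = ⊥ ∧ l ∈ normalizer (N (side c) : Set G)

namespace PIn

variable {B Q V O ZJ : Subgroup G} {side : ι → Fin 2} {W Z A : ι → Subgroup G} {N : Fin 2 → Subgroup G}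
  (h : PIn B Q V O ZJ side W Z A N)
include h

theorem ZV (b : ι) : Z b ≤ V := (h.ZW b).trans (h.WV b)

theorem ZJV : ZJ ≤ V := by
  rw [h.ZJ_eq]
  exact iSup_le h.ZV

theorem VcV (c : ι) : Vc W c ≤ V := iSup_le fun d => h.WV d

theorem V_comm {v v' : G} (hv : v ∈ V) (hv' : v' ∈ V) : v * v' = v' * v :=
  (mem_centralizer_iff.1 (le_cent h.el hv) v' hv').symm

theorem QB : Q ≤ B := by rw [h.Q_eq]; exact inf_le_left

theorem QV : Q ≤ centralizer (V : Set G) := by rw [h.Q_eq]; exact inf_le_right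

theorem V_split (c : ι) : V ≤ W c ⊔ Vc W c := by
  refine h.sup.trans (iSup_le fun d => ?_)
  by_cases hd : d = c
  · rw [hd]; exact le_sup_left
  · exact (le_Vc hd).trans le_sup_right

theorem W_le_N_Vc (c : ι) : W c ≤ normalizer (Vc W c : Set G) :=
  ((h.WV c).trans ((le_cent h.el).trans (centralizer_le (h.VcV c)))).trans (centralizer_le_normalizer _)

theorem split {v : G} (hv : v ∈ V) (c : ι) : ∃ w ∈ W c, ∃ u ∈ Vc W c, v = w * u := by
  have h1 : v ∈ ((W c ⊔ Vc W c : Subgroup G) : Set G) := h.V_split c hv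
  rw [coe_mul_of_left_le_normalizer_right _ _ (h.W_le_N_Vc c)] at h1
  obtain ⟨w, hw, u, hu, e⟩ := Set.mem_mul.mp h1
  exact ⟨w, hw, u, hu, e.symm⟩

theorem split_ZJ {v : G} (hv : v ∈ ZJ) (c : ι) : ∃ w ∈ Z c, ∃ u ∈ Vc W c, v = w * u := by
  have h0 : ZJ ≤ Z c ⊔ Vc W c := by
    rw [h.ZJ_eq]
    refine iSup_le fun d => ?_
    by_cases hd : d = c
    · rw [hd]; exact le_sup_left
    · exact ((h.ZW d).trans (le_Vc hd)).trans le_sup_right
  have h1 : v ∈ ((Z c ⊔ Vc W c : Subgroup G) : Set G) := h0 hv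
  rw [coe_mul_of_left_le_normalizer_right _ _ ((h.ZW c).trans (h.W_le_N_Vc c))] at h1
  obtain ⟨w, hw, u, hu, e⟩ := Set.mem_mul.mp h1
  exact ⟨w, hw, u, hu, e.symm⟩

theorem eq_one_of {c : ι} {v : G} (h1 : v ∈ W c) (h2 : v ∈ Vc W c) : v = 1 := by
  have : v ∈ W c ⊓ Vc W c := ⟨h1, h2⟩
  rw [h.dis c] at this
  exact mem_bot.1 this

/-- independence -/
theorem eq_of_mul_eq {c : ι} {w w' u u' : G} (hw : w ∈ W c) (hw' : w' ∈ W c) (hu : u ∈ Vc W c) (hu' : u' ∈ Vc W c)
    (e : w * u = w' * u') : w = w' ∧ u = u' := by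
  have h1 : w'⁻¹ * w = u' * u⁻¹ := by
    rw [inv_mul_eq_iff_eq_mul, ← mul_assoc, ← e]; group
  have h2 : w'⁻¹ * w = 1 := h.eq_one_of (mul_mem (inv_mem hw') hw) (by rw [h1]; exact mul_mem hu' (inv_mem hu))
  have h3 : w = w' := by rw [inv_mul_eq_one] at h2; exact h2.symm
  refine ⟨h3, ?_⟩
  rw [h3] at e
  exact mul_left_cancel e

theorem A_Vc {c : ι} : A c ≤ centralizer (Vc W c : Set G) :=
  cent_symm (iSup_le fun d => cent_symm (h.AC c d d.2))

theorem Z_ne_W [Finite G] (b : ι) : ∃ w ∈ W b, w ∉ Z b := by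
  by_contra hc
  push Not at hc
  have h1 : (Z b).relIndex (W b) = 1 := relIndex_eq_one.2 hc
  rw [h.card b] at h1
  exact h.Zne b (card_eq_one.1 h1)

theorem exists_Z_ne (b : ι) : ∃ z ∈ Z b, z ≠ 1 := by
  by_contra hc
  push Not at hc
  exact h.Zne b ((eq_bot_iff_forall _).2 hc)

theorem not_cent {b : ι} {w : G} (hw : w ∈ W b) (hwZ : w ∉ Z b) : ∃ a ∈ A b, a * w ≠ w * a := by
  obtain ⟨z, hz, hz1⟩ := h.exists_Z_ne b
  obtain ⟨a, ha, e⟩ := h.fullw b w hw hwZ z hz
  exact ⟨a, ha, fun hc => hz1 (by rw [← e]; exact comm_eq_one.2 hc)⟩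

/-- `g ∈ A c` centralises some `w ∈ W c \ Z c`: `g` centralises `V` -/
theorem cent_V_of {c : ι} {w a : G} (hw : w ∈ W c) (hwZ : w ∉ Z c) (ha : a ∈ A c) (hc : a * w = w * a) :
    a ∈ centralizer (V : Set G) := by
  have h1 : a ∈ centralizer (W c : Set G) := by
    by_contra h2
    exact hwZ (h.fixg c a (h.AB c ha) h2 w hw hc)
  have h3 : V ≤ centralizer ({a} : Set G) := by
    refine (h.V_split c).trans (sup_le ?_ ?_)
    · intro v hv
      rw [mem_centralizer_singleton_iff]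
      exact mem_centralizer_iff.1 h1 v hv
    · intro v hv
      rw [mem_centralizer_singleton_iff]
      exact mem_centralizer_iff.1 (h.A_Vc ha) v hv
  rw [mem_centralizer_iff]
  intro v hv
  exact mem_centralizer_singleton_iff.1 (h3 hv)

variable [Finite G]

/-- `|A c : C_{A c}(V)| = |Z c|` -/
theorem idxA (c : ι) : (centralizer (V : Set G)).relIndex (A c) = Nat.card (Z c) := by
  obtain ⟨w, hw, hwZ⟩ := h.Z_ne_W c
  have e : (centralizer (V : Set G)).relIndex (A c) = (centralizer ({w} : Set G)).relIndex (A c) := by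
    rw [← inf_relIndex_right, ← inf_relIndex_right (centralizer ({w} : Set G))]
    congr 1
    apply le_antisymm
    · exact inf_le_inf_right _ (centralizer_le (Set.singleton_subset_iff.2 (h.WV c hw)))
    · rintro a ⟨h1, h2⟩
      exact ⟨h.cent_V_of hw hwZ h2 (mem_centralizer_singleton_iff.1 h1), h2⟩
  rw [e]
  exact le_antisymm (relIndex_cent_le fun a ha => h.root c a (h.AB c ha) w hw) (le_relIndex_cent (h.fullw c w hw hwZ))

/-- `|W c : C_{W c}(A c)| = |Z c|` -/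
theorem idxW (c : ι) : (centralizer (A c : Set G)).relIndex (W c) = Nat.card (Z c) := by
  rw [← h.card c, ← inf_relIndex_right, ← inf_relIndex_right (Z c)]
  congr 1
  apply le_antisymm
  · rintro w ⟨h1, h2⟩
    refine ⟨?_, h2⟩
    by_contra hwZ
    obtain ⟨a, ha, hn⟩ := h.not_cent h2 hwZ
    exact hn (mem_centralizer_iff.1 h1 a ha)
  · rintro w ⟨h1, h2⟩
    refine ⟨?_, h2⟩
    show w ∈ centralizer (A c : Set G)
    rw [mem_centralizer_iff]
    intro a ha
    exact (mem_centralizer_iff.1 (h.BZ c (h.AB c ha)) w h1).symm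

/-- `|V : C_V(A c)| = |Z c|` -/
theorem idxV (c : ι) : (centralizer (A c : Set G)).relIndex V = Nat.card (Z c) := by
  rw [relIndex_eq_of_le_sup (le_cent h.el) (h.WV c), h.idxW c]
  refine (h.V_split c).trans (sup_le le_sup_left ?_)
  exact le_sup_of_le_right (le_inf (h.VcV c) (cent_symm h.A_Vc))

theorem conj_B {x : G} (hx : x ∈ normalizer (B : Set G)) {g : G} (hg : g ∈ B) : x⁻¹ * g * x ∈ B := by
  have := (mem_normalizer_iff.1 (inv_mem hx) g).1 hg
  rwa [inv_inv] at this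

/-- `B` acts on `W bˣ` through the root group with centre `Z bˣ` -/
theorem root_cj {x : G} (hx : x ∈ normalizer (B : Set G)) (b : ι) {g w : G} (hg : g ∈ B) (hw : w ∈ cj x (W b)) :
    ⁅w, g⁆ ∈ cj x (Z b) := by
  obtain ⟨v, hv, rfl⟩ := hw
  refine ⟨⁅v, x⁻¹ * g * x⁆, h.root b _ (h.conj_B hx hg) v hv, ?_⟩
  exact comm_conj.symm

theorem moves_cj {x : G} {b : ι} {g w : G} (hw : w ∈ cj x (W b)) (hc : g * w ≠ w * g) :
    x⁻¹ * g * x ∉ centralizer (W b : Set G) := by
  intro h1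
  apply hc
  have h2 := mem_centralizer_iff.1 h1 _ (mem_cj.1 hw)
  calc g * w = x * (x⁻¹ * g * x * (x⁻¹ * w * x)) * x⁻¹ := by group
    _ = x * (x⁻¹ * w * x * (x⁻¹ * g * x)) * x⁻¹ := by rw [h2]
    _ = w * g := by group

theorem fullg_cj {x : G} (hx : x ∈ normalizer (B : Set G)) {b : ι} {g w : G} (hg : g ∈ B) (hw : w ∈ cj x (W b))
    (hc : g * w ≠ w * g) {z : G} (hz : z ∈ cj x (Z b)) : ∃ v ∈ cj x (W b), ⁅v, g⁆ = z := by
  obtain ⟨z, hz, rfl⟩ := hz
  obtain ⟨v, hv, e⟩ := h.fullg b _ (h.conj_B hx hg) (h.moves_cj hw hc) z hz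
  refine ⟨x * v * x⁻¹, ⟨v, hv, rfl⟩, ?_⟩
  rw [comm_conj, e]
  rfl

theorem fixg_cj {x : G} (hx : x ∈ normalizer (B : Set G)) {b : ι} {g w v : G} (hg : g ∈ B) (hw : w ∈ cj x (W b))
    (hc : g * w ≠ w * g) (hv : v ∈ cj x (W b)) (hv' : g * v = v * g) : v ∈ cj x (Z b) := by
  rw [mem_cj]
  refine h.fixg b _ (h.conj_B hx hg) (h.moves_cj hw hc) _ (mem_cj.1 hv) ?_
  calc x⁻¹ * g * x * (x⁻¹ * v * x) = x⁻¹ * (g * v) * x := by group
    _ = x⁻¹ * (v * g) * x := by rw [hv']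
    _ = _ := by group

theorem card_cj_Z (x : G) (b : ι) : (cj x (Z b)).relIndex (cj x (W b)) = Nat.card (Z b) := by
  rw [← h.card b]
  exact relIndex_map_map_of_injective _ _ (MulAut.conj x).injective

/-- `C_V(B) ≤`: an element of `V` centralised by all `A c` is centralised by `B` -/
theorem exists_A {n : G} (hn : n ∈ V) (hB : ¬ B ≤ centralizer ({n} : Set G)) : ∃ c, ∃ a ∈ A c, a * n ≠ n * a := by
  by_contra hc
  push Not at hc
  apply hB
  refine h.gen.trans (sup_le (fun q hq => ?_) (iSup_le fun c a ha => ?_))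
  · rw [mem_centralizer_singleton_iff]
    exact (mem_centralizer_iff.1 (h.QV hq) n hn).symm
  · rw [mem_centralizer_singleton_iff]
    exact hc c a ha

/-- **(2)** -/
theorem two {x : G} (hx : x ∈ normalizer (B : Set G)) {b : ι} (hV : cj x (W b) ≤ V) : ∃ c, cj x (Z b) = Z c := by
  obtain ⟨w, hw, hwZ⟩ := h.Z_ne_W b
  set n := x * w * x⁻¹ with hn
  have hnW : n ∈ cj x (W b) := ⟨w, hw, rfl⟩
  have hnB : ¬ B ≤ centralizer ({n} : Set G) := by
    intro hc
    obtain ⟨a, ha, hna⟩ := h.not_cent hw hwZ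
    apply hna
    have h1 := mem_centralizer_singleton_iff.1 (hc ((mem_normalizer_iff.1 hx a).1 (h.AB b ha)))
    calc a * w = x⁻¹ * (x * a * x⁻¹ * n) * x := by rw [hn]; group
      _ = x⁻¹ * (n * (x * a * x⁻¹)) * x := by rw [h1]
      _ = w * a := by rw [hn]; group
  obtain ⟨c, a, ha, hna⟩ := h.exists_A (hV hnW) hnB
  refine ⟨c, ?_⟩
  have haB := h.AB c ha
  -- `Z c ≤ Z bˣ`
  have hle : Z c ≤ cj x (Z b) := by
    obtain ⟨v, hv, u, hu, e⟩ := h.split (hV hnW) c
    have hvZ : v ∉ Z c := by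
      intro hvZ
      apply hna
      have h1 := mem_centralizer_iff.1 (h.BZ c haB) v hvZ
      have h2 := mem_centralizer_iff.1 (h.A_Vc ha) u hu
      rw [e]
      calc a * (v * u) = a * v * u := by group
        _ = v * (a * u) := by rw [← h1]; group
        _ = v * u * a := by rw [← h2]; group
    intro z hz
    obtain ⟨a', ha', e'⟩ := h.fullw c v hv hvZ z hz
    have h2 := mem_centralizer_iff.1 (h.A_Vc ha') u hu
    have h3 : ⁅u, a'⁆ = 1 := comm_eq_one.2 h2.symm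
    have h4 : ⁅n, a'⁆ = z := by
      rw [e, comm_mul_left (by rw [h3]; group), h3, e']
      group
    rw [← h4]
    exact h.root_cj hx b (h.AB c ha') hnW
  symm
  apply Subgroup.eq_of_le_of_card_ge hle
  rw [card_cj]
  -- `|Z b| ≤ |W bˣ : C(A c)| ≤ |V : C(A c)| = |Z c|`
  have h5 : Nat.card (Z b) ≤ (centralizer (A c : Set G)).relIndex (cj x (W b)) := by
    rw [← h.card_cj_Z x b, ← inf_relIndex_right (centralizer (A c : Set G))]
    refine relIndex_le_of_le_left ?_ index_ne_zero_of_finite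
    rintro v ⟨h1, h2⟩
    exact h.fixg_cj hx haB hnW hna h2 (mem_centralizer_iff.1 h1 a ha)
  have h6 : (centralizer (A c : Set G)).relIndex (cj x (W b)) ≤ (centralizer (A c : Set G)).relIndex V :=
    relIndex_le_of_le_right hV index_ne_zero_of_finite
  rw [h.idxV c] at h6
  exact h5.trans h6

/-- **(1)** -/
theorem one {x : G} (hx : x ∈ normalizer (B : Set G)) {b : ι} (hV : ¬ cj x (W b) ≤ centralizer (V : Set G)) :
    ∃ c, cj x (Z b) = Z c := by
  have hWB : cj x (W b) ≤ B := by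
    have := cj_mono x ((h.WV b).trans h.VB)
    rwa [cj_eq_of_mem_normalizer hx] at this
  have h1 : ∃ c, ¬ cj x (W b) ≤ centralizer (W c : Set G) := by
    by_contra hc
    push Not at hc
    apply hV
    exact cent_symm (h.sup.trans (iSup_le fun c => cent_symm (hc c)))
  obtain ⟨c, hc⟩ := h1
  obtain ⟨w, hw, hwc⟩ := SetLike.not_le_iff_exists.1 hc
  have h2 : ∃ v ∈ W c, v * w ≠ w * v := by
    by_contra hcon
    push Not at hcon
    exact hwc (mem_centralizer_iff.2 hcon)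
  obtain ⟨v, hv, hvw⟩ := h2
  refine ⟨c, le_antisymm ?_ ?_⟩
  · -- `Z bˣ = [W bˣ, v] ≤ Z c`
    intro z hz
    have hvB : v ∈ B := h.VB (h.WV c hv)
    obtain ⟨w', hw', e⟩ := h.fullg_cj hx hvB hw hvw hz
    have h3 := h.root c w' (hWB hw') v hv
    rw [← e, ← commutatorElement_inv]
    exact inv_mem h3
  · -- `Z c = [W c, w] ≤ Z bˣ`
    intro z hz
    obtain ⟨v', hv', e⟩ := h.fullg c w (hWB hw) hwc z hz
    have h3 := h.root_cj hx b (h.VB (h.WV c hv')) hw
    rw [← e, ← commutatorElement_inv]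
    exact inv_mem h3

theorem VQ : V ≤ Q := by
  rw [h.Q_eq]
  exact le_inf h.VB (le_cent h.el)

theorem A_inf_le_Q (c : ι) : A c ⊓ centralizer (V : Set G) ≤ Q := by
  rw [h.Q_eq]
  exact inf_le_inf_right _ (h.AB c)

theorem A_inf_W (c : ι) : A c ⊓ centralizer (W c : Set G) ≤ A c ⊓ centralizer (V : Set G) := by
  rintro a ⟨h1, h2⟩
  obtain ⟨w, hw, hwZ⟩ := h.Z_ne_W c
  exact ⟨h1, h.cent_V_of hw hwZ h1 (mem_centralizer_iff.1 h2 w hw).symm⟩

theorem exactW (c : ι) : (centralizer (W c : Set G)).relIndex (A c) = (centralizer (A c : Set G)).relIndex (W c) := by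
  rw [h.idxW c, ← h.idxA c, ← inf_relIndex_right, ← inf_relIndex_right (centralizer (V : Set G))]
  congr 1
  apply le_antisymm
  · rw [inf_comm, inf_comm (centralizer (V : Set G))]
    exact h.A_inf_W c
  · exact inf_le_inf_right _ (centralizer_le (h.WV c))

/-- **(3)** -/
theorem three [Finite ι] {n : G} (hnO : n ∈ O) (hnQ : n ∈ Q) (hn2 : n ^ 2 = 1) (hc : ∀ g ∈ Q, g * n = n * g) : n ∈ V := by
  classical
  have := Fintype.ofFinite ι
  set E := ZN.zc Q ⊓ O with hE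
  have hEel : IsElementaryAbelian 2 E := el_mono (isEl_zc Q) inf_le_left
  have hEc := le_cent hEel
  have hEO : E ≤ O := inf_le_right
  have hQE : Q ≤ centralizer (E : Set G) := fun q hq => mem_centralizer_iff.2 fun e he =>
    ((mem_zc.1 he.1).2.2 q hq).symm
  have hVE : V ≤ E := fun v hv => ⟨mem_zc.2 ⟨h.VQ hv, h.el.2 v hv, fun q hq =>
    (mem_centralizer_iff.1 (h.QV hq) v hv).symm⟩, h.VO hv⟩
  have hnE : n ∈ E := ⟨mem_zc.2 ⟨hnQ, hn2, hc⟩, hnO⟩
  have hsp : ∀ c, E ≤ W c ⊔ (E ⊓ centralizer (A c : Set G)) := fun c =>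
    le_sup_of_exact (h.AO c) hEel hEO ((h.WV c).trans hVE) (h.exactW c)
      ((h.A_inf_W c).trans ((h.A_inf_le_Q c).trans hQE))
  have key : ∀ s : Finset ι, ∃ v ∈ V, ∀ c ∈ s, ∀ a ∈ A c, a * (n * v) = n * v * a := by
    intro s
    induction s using Finset.induction_on with
    | empty => exact ⟨1, one_mem _, fun c hc => absurd hc (Finset.notMem_empty c)⟩
    | insert d s hd ih =>
      obtain ⟨v, hv, hs⟩ := ih
      have hnv : n * v ∈ E := mul_mem hnE (hVE hv)
      have h1 : n * v ∈ ((W d ⊔ (E ⊓ centralizer (A d : Set G)) : Subgroup G) : Set G) := hsp d hnv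
      rw [coe_mul_of_left_le_normalizer_right _ _ ((((h.WV d).trans hVE).trans (hEc.trans
        (centralizer_le inf_le_left))).trans (centralizer_le_normalizer _))] at h1
      obtain ⟨w, hw, c', hc', e⟩ := Set.mem_mul.mp h1
      refine ⟨v * w⁻¹, mul_mem hv (inv_mem (h.WV d hw)), ?_⟩
      have e1 : n * (v * w⁻¹) = c' := by
        have h2 := mem_centralizer_iff.1 (hEc hc'.1) w (hVE (h.WV d hw))
        rw [← mul_assoc, ← e, h2]; group
      intro c hcs a ha
      rcases Finset.mem_insert.1 hcs with rfl | hcs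
      · rw [e1]
        exact mem_centralizer_iff.1 hc'.2 a ha
      · have hdc : d ≠ c := fun e => hd (e ▸ hcs)
        have h3 := hs c hcs a ha
        have h4 := mem_centralizer_iff.1 (h.AC c d hdc ha) w⁻¹ (inv_mem hw)
        calc a * (n * (v * w⁻¹)) = a * (n * v) * w⁻¹ := by group
          _ = n * v * (a * w⁻¹) := by rw [h3]; group
          _ = n * v * (w⁻¹ * a) := by rw [h4]
          _ = _ := by group
  obtain ⟨v, hv, hall⟩ := key Finset.univ
  have hnv : n * v ∈ E := mul_mem hnE (hVE hv)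
  have hB : B ≤ centralizer ({n * v} : Set G) := by
    refine h.gen.trans (sup_le (fun q hq => ?_) (iSup_le fun c a ha => ?_))
    · rw [mem_centralizer_singleton_iff]
      exact (mem_centralizer_iff.1 (hQE hq) _ hnv).symm
    · rw [mem_centralizer_singleton_iff]
      exact hall c (Finset.mem_univ c) a ha
  have h5 : n * v ∈ ZJ := h.zO _ hnv.2 (hEel.2 _ hnv) fun g hg => mem_centralizer_singleton_iff.1 (hB hg)
  have h6 := mul_mem (h.ZJV h5) (inv_mem hv)
  have e : n * v * v⁻¹ = n := by group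
  rwa [e] at h6

/-! ### `(4)` -/

section l

variable {x l : G} (hx : x ∈ normalizer (B : Set G)) (hl : l ∈ normalizer (Q : Set G)) {b : ι}
include hx hl

omit hx in
theorem conj_Q {g : G} (hg : g ∈ Q) : l⁻¹ * g * l ∈ Q := by
  have := (mem_normalizer_iff.1 (inv_mem hl) g).1 hg
  rwa [inv_inv] at this

theorem root_l {g w : G} (hg : g ∈ Q) (hw : w ∈ cj l (cj x (W b))) : ⁅w, g⁆ ∈ cj l (cj x (Z b)) := by
  obtain ⟨v, hv, rfl⟩ := hw
  exact ⟨⁅v, l⁻¹ * g * l⁆, h.root_cj hx b (h.QB (h.conj_Q hl hg)) hv, comm_conj.symm⟩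

omit hx hl in
theorem moves_l {g w : G} (hc : g * w ≠ w * g) : (l⁻¹ * g * l) * (l⁻¹ * w * l) ≠ (l⁻¹ * w * l) * (l⁻¹ * g * l) := by
  intro e
  apply hc
  calc g * w = l * ((l⁻¹ * g * l) * (l⁻¹ * w * l)) * l⁻¹ := by group
    _ = l * ((l⁻¹ * w * l) * (l⁻¹ * g * l)) * l⁻¹ := by rw [e]
    _ = w * g := by group

theorem full_l {g w : G} (hg : g ∈ Q) (hw : w ∈ cj l (cj x (W b))) (hc : g * w ≠ w * g) {z : G}
    (hz : z ∈ cj l (cj x (Z b))) : ∃ v ∈ cj l (cj x (W b)), ⁅v, g⁆ = z := by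
  obtain ⟨z, hz, rfl⟩ := hz
  obtain ⟨v, hv, e⟩ := h.fullg_cj hx (h.QB (h.conj_Q hl hg)) (mem_cj.1 hw) (h.moves_l hc) hz
  refine ⟨l * v * l⁻¹, ⟨v, hv, rfl⟩, ?_⟩
  rw [comm_conj, e]
  rfl

theorem fix_l {g w v : G} (hg : g ∈ Q) (hw : w ∈ cj l (cj x (W b))) (hc : g * w ≠ w * g)
    (hv : v ∈ cj l (cj x (W b))) (hv' : g * v = v * g) : v ∈ cj l (cj x (Z b)) := by
  rw [mem_cj]
  refine h.fixg_cj hx (h.QB (h.conj_Q hl hg)) (mem_cj.1 hw) (h.moves_l hc) (mem_cj.1 hv) ?_
  calc l⁻¹ * g * l * (l⁻¹ * v * l) = l⁻¹ * (g * v) * l := by group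
    _ = l⁻¹ * (v * g) * l := by rw [hv']
    _ = _ := by group

/-- `Q` centralises `Z bˣˡ` -/
theorem Z_l {g z : G} (hg : g ∈ Q) (hz : z ∈ cj l (cj x (Z b))) : g * z = z * g := by
  have h1 : x⁻¹ * (l⁻¹ * g * l) * x ∈ B := h.conj_B hx (h.QB (h.conj_Q hl hg))
  have h2 := mem_centralizer_iff.1 (h.BZ b h1) _ (mem_cj.1 (mem_cj.1 hz))
  calc g * z = l * (x * (x⁻¹ * (l⁻¹ * g * l) * x * (x⁻¹ * (l⁻¹ * z * l) * x)) * x⁻¹) * l⁻¹ := by group
    _ = l * (x * (x⁻¹ * (l⁻¹ * z * l) * x * (x⁻¹ * (l⁻¹ * g * l) * x)) * x⁻¹) * l⁻¹ := by rw [h2]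
    _ = z * g := by group

theorem card_l :
    (cj l (cj x (Z b))).relIndex (cj l (cj x (W b))) = Nat.card (Z b) := by
  rw [← h.card_cj_Z x b]
  exact relIndex_map_map_of_injective _ _ (MulAut.conj l).injective

end l

/-- `[V, A c] ≤ Z c` -/
theorem comm_V_A {c : ι} {v a : G} (hv : v ∈ V) (ha : a ∈ A c) : ⁅v, a⁆ ∈ Z c := by
  obtain ⟨w, hw, u, hu, e⟩ := h.split hv c
  have h3 : ⁅u, a⁆ = 1 := comm_eq_one.2 (mem_centralizer_iff.1 (h.A_Vc ha) u hu).symm
  rw [e, comm_mul_left (by rw [h3]; group), h3, one_mul]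
  exact h.root c a (h.AB c ha) w hw

/-- **(4)** -/
theorem four [Finite ι] {x : G} (hx : x ∈ normalizer (B : Set G)) {b c : ι} (hs : side c = side b)
    (hxN : x ∈ normalizer (N (side b) : Set G)) (hQ : cj x (W b) ≤ centralizer (V : Set G)) (hZ : cj x (Z b) ≤ ZJ)
    (hp : ¬ cj x (Z b) ≤ Vc W c) : cj x (W b) ≤ V := by
  obtain ⟨l, hlQ, hlW, hlV, hlZ, hlN⟩ := h.ll c
  rw [hs] at hlN
  set i := side b with hi
  have hWB : cj x (W b) ≤ B := by
    have := cj_mono x ((h.WV b).trans h.VB)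
    rwa [cj_eq_of_mem_normalizer hx] at this
  have hWQ : cj x (W b) ≤ Q := by
    rw [h.Q_eq]
    exact le_inf hWB hQ
  have hWN : cj x (W b) ≤ N i := by
    have := cj_mono x (h.WN b)
    rwa [cj_eq_of_mem_normalizer hxN] at this
  set W₁ := cj l (cj x (W b)) with hW₁
  set Z₁ := cj l (cj x (Z b)) with hZ₁
  have hW₁Q : W₁ ≤ Q := by
    have := cj_mono l hWQ
    rwa [cj_eq_of_mem_normalizer hlQ] at this
  have hW₁N : W₁ ≤ N i := by
    have := cj_mono l hWN
    rwa [cj_eq_of_mem_normalizer hlN] at this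
  have hNc := le_cent (h.Nel i)
  have hW₁el : IsElementaryAbelian 2 W₁ := el_mono (h.Nel i) hW₁N
  set A₀ := A c ⊓ centralizer (V : Set G) with hA₀
  have hA₀Q : A₀ ≤ Q := h.A_inf_le_Q c
  -- `a ∈ A c` moving `V`
  obtain ⟨w₀, hw₀, hw₀Z⟩ := h.Z_ne_W c
  obtain ⟨a, ha, hna⟩ := h.not_cent hw₀ hw₀Z
  have haV : a ∉ centralizer (V : Set G) := fun hc => hna (mem_centralizer_iff.1 hc w₀ (h.WV c hw₀)).symm
  have haB := h.AB c ha
  have hAab := le_cent (h.AO c).1
  -- the element `z`, `ζ = l z l⁻¹ = s u`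
  obtain ⟨z, hz, hzV⟩ := SetLike.not_le_iff_exists.1 hp
  obtain ⟨zc, hzc, u, hu, ez⟩ := h.split_ZJ (hZ hz) c
  have hzc1 : zc ≠ 1 := by
    rintro rfl
    rw [one_mul] at ez
    exact hzV (ez ▸ hu)
  set s := l * zc * l⁻¹ with hs'
  have hsW : s ∈ W c := (mem_normalizer_iff.1 hlW zc).1 (h.ZW c hzc)
  have hsZ : s ∈ cj l (Z c) := ⟨zc, hzc, rfl⟩
  have hs1 : s ≠ 1 := by
    intro e
    apply hzc1
    have : zc = l⁻¹ * s * l := by rw [hs']; group
    rw [this, e]; group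
  have hconj : ∀ {p q : G}, q ∈ Vc W c → l * (p * q) * l⁻¹ = l * p * l⁻¹ * q := by
    intro p q hq
    calc l * (p * q) * l⁻¹ = l * p * l⁻¹ * (l * q) * l⁻¹ := by group
      _ = l * p * l⁻¹ * (q * l) * l⁻¹ := by rw [hlV q hq]
      _ = _ := by group
  have hζ : l * z * l⁻¹ = s * u := by rw [ez, hconj hu]
  have hζZ : s * u ∈ Z₁ := hζ ▸ ⟨z, hz, rfl⟩
  -- an element of `cj l (Z c) ∩ W c` commuting with `a` is trivial
  have htriv : ∀ s' ∈ cj l (Z c), s' ∈ W c → a * s' = s' * a → s' = 1 := by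
    intro s' h1 h2 h3
    by_cases h4 : s' ∈ Z c
    · have : s' ∈ Z c ⊓ cj l (Z c) := ⟨h4, h1⟩
      rw [hlZ] at this
      exact mem_bot.1 this
    · exact absurd (h.cent_V_of h2 h4 ha h3) haV
  have hmemZ₁ : ∀ t ∈ Z₁, ∃ s' ∈ cj l (Z c), s' ∈ W c ∧ ∃ u' ∈ Vc W c, t = s' * u' := by
    rintro _ ⟨z', hz', rfl⟩
    obtain ⟨zc', hzc', u', hu', ez'⟩ := h.split_ZJ (hZ hz') c
    refine ⟨l * zc' * l⁻¹, ⟨zc', hzc', rfl⟩, (mem_normalizer_iff.1 hlW zc').1 (h.ZW c hzc'), u', hu', ?_⟩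
    show l * z' * l⁻¹ = _
    rw [ez', hconj hu']
  have ha_s : a * s * a⁻¹ ∈ W c := by
    have h1 := h.root c a haB s hsW
    have e : a * s * a⁻¹ = (⁅s, a⁆)⁻¹ * s := by simp only [commutatorElement_def]; group
    rw [e]
    exact mul_mem (inv_mem (h.ZW c h1)) hsW
  have ha_u : a * u = u * a := (mem_centralizer_iff.1 (h.A_Vc ha) u hu).symm
  have haV' : ∀ v ∈ V, a * v * a⁻¹ ∈ V := by
    intro v hv
    have e : a * v * a⁻¹ = (⁅v, a⁆)⁻¹ * v := by simp only [commutatorElement_def]; group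
    rw [e]
    exact mul_mem (inv_mem (h.ZV c (h.comm_V_A hv ha))) hv
  have haQ : a ∈ normalizer (Q : Set G) := by
    have hV' : a ∈ normalizer (V : Set G) := by
      rw [mem_normalizer_iff_cj]
      refine Subgroup.eq_of_le_of_card_ge ?_ (by rw [card_cj])
      rintro _ ⟨v, hv, rfl⟩
      exact haV' v hv
    rw [mem_normalizer_iff_cj, h.Q_eq, cj_inf, cj_centralizer, cj_eq_of_mem_normalizer hV',
      cj_eq_of_mem_normalizer (le_normalizer haB)]
  by_cases hcase : A₀ ≤ centralizer (W₁ : Set G)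
  · -- **(b)**
    have hE₀ := (rank_cent (h.AO c) h.el h.VO ((h.idxA c).trans (h.idxV c).symm).le).1
    rw [← hA₀] at hE₀
    have hWE : W₁ ≤ A₀ ⊔ V := by
      have hc1 : A₀ ⊔ V ≤ centralizer (W₁ : Set G) := sup_le hcase (cent_symm (hW₁Q.trans h.QV))
      have h1 := hE₀.2.2 (A₀ ⊔ V ⊔ W₁) (PLocal.ElemAbSup.isElementaryAbelian_sup hE₀.1 hW₁el (cent_symm hc1))
        (sup_le hE₀.2.1 (hW₁N.trans (h.NO i)))
      rw [Subgroup.eq_of_le_of_card_ge le_sup_left h1]
      exact le_sup_right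
    have hQW : ∀ g ∈ Q, ∀ y ∈ W₁, g * y = y * g := by
      intro g hg y₀ hy₀
      by_contra hne
      obtain ⟨y, hy, ey⟩ := h.full_l hx hlQ hg hy₀ hne hζZ
      have h1 : y ∈ ((A₀ ⊔ V : Subgroup G) : Set G) := hWE hy
      rw [coe_mul_of_left_le_normalizer_right _ _
        ((inf_le_right : A₀ ≤ centralizer (V : Set G)).trans (centralizer_le_normalizer _))] at h1
      obtain ⟨a₀, ha₀, v, hv, e⟩ := Set.mem_mul.mp h1
      have hk : ⁅v⁻¹, a⁆ ∈ Z c := h.comm_V_A (inv_mem hv) ha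
      have hgk : g * ⁅v⁻¹, a⁆ = ⁅v⁻¹, a⁆ * g := (mem_centralizer_iff.1 (h.QV hg) _ (h.ZV c hk)).symm
      have hk1 : ⁅⁅v⁻¹, a⁆, g⁆ = 1 := comm_eq_one.2 hgk
      have haa₀ : a * a₀ = a₀ * a := (mem_centralizer_iff.1 (hAab ha) a₀ ha₀.1).symm
      have e1 : a * y * a⁻¹ = y * ⁅v⁻¹, a⁆ := by
        rw [← e, commutatorElement_def]
        calc a * (a₀ * v) * a⁻¹ = a * a₀ * v * a⁻¹ := by group
          _ = a₀ * a * v * a⁻¹ := by rw [haa₀]
          _ = _ := by group
      have e2 : ⁅a * y * a⁻¹, g⁆ = s * u := by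
        rw [e1, comm_mul_left (by rw [hk1]; group), hk1, ey, one_mul]
      have h3 : a⁻¹ * g * a ∈ Q := by
        have := (mem_normalizer_iff.1 (inv_mem haQ) g).1 hg
        rwa [inv_inv] at this
      obtain ⟨s', hs'l, hs'W, u', hu', e3⟩ := hmemZ₁ _ (h.root_l hx hlQ h3 hy)
      rw [comm_conj, e3] at e2
      have ha_u' : a * u' = u' * a := (mem_centralizer_iff.1 (h.A_Vc ha) u' hu').symm
      have has' : a * s' * a⁻¹ ∈ W c := by
        have h5 := h.root c a haB s' hs'W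
        have e5 : a * s' * a⁻¹ = (⁅s', a⁆)⁻¹ * s' := by simp only [commutatorElement_def]; group
        rw [e5]
        exact mul_mem (inv_mem (h.ZW c h5)) hs'W
      have e4 : a * s' * a⁻¹ * u' = s * u := by
        rw [← e2]
        calc a * s' * a⁻¹ * u' = a * s' * a⁻¹ * (u' * a) * a⁻¹ := by group
          _ = a * s' * a⁻¹ * (a * u') * a⁻¹ := by rw [ha_u']
          _ = _ := by group
      have h6 := (h.eq_of_mul_eq has' hsW hu' hu e4).1
      have h7 : s * s'⁻¹ ∈ Z c := by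
        have e7 : s * s'⁻¹ = (⁅s', a⁆)⁻¹ := by rw [← h6, commutatorElement_def]; group
        rw [e7]
        exact inv_mem (h.root c a haB s' hs'W)
      have h8 : s * s'⁻¹ ∈ Z c ⊓ cj l (Z c) := mem_inf.2 ⟨h7, mul_mem hsZ (inv_mem hs'l)⟩
      rw [hlZ] at h8
      have h9 : s = s' := mul_inv_eq_one.1 (mem_bot.1 h8)
      apply hs1
      apply htriv s hsZ hsW
      rw [← h9] at h6
      calc a * s = a * s * a⁻¹ * a := by group
        _ = s * a := by rw [h6]
    intro n hn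
    refine h.three (h.NO i (hWN hn)) (hWQ hn) ((h.Nel i).2 n (hWN hn)) fun g hg => ?_
    have h1 := hQW (l * g * l⁻¹) ((mem_normalizer_iff.1 hlQ g).1 hg) (l * n * l⁻¹) ⟨n, hn, rfl⟩
    calc g * n = l⁻¹ * (l * g * l⁻¹ * (l * n * l⁻¹)) * l := by group
      _ = l⁻¹ * (l * n * l⁻¹ * (l * g * l⁻¹)) * l := by rw [h1]
      _ = n * g := by group
  · -- **(a)**
    exfalso
    obtain ⟨e, he, heW⟩ := SetLike.not_le_iff_exists.1 hcase
    have h0 : ∃ y₀ ∈ W₁, e * y₀ ≠ y₀ * e := by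
      by_contra hcon
      push Not at hcon
      exact heW (mem_centralizer_iff.2 fun y hy => (hcon y hy).symm)
    obtain ⟨y₀, hy₀, hne⟩ := h0
    have heQ := hA₀Q he
    obtain ⟨y, hy, ey⟩ := h.full_l hx hlQ heQ hy₀ hne hζZ
    have hae : a * e = e * a := (mem_centralizer_iff.1 (hAab ha) e he.1).symm
    have hW₂N : cj a W₁ ≤ N i := by
      have := cj_mono a hW₁N
      rwa [cj_eq_of_mem_normalizer (h.BN i haB)] at this
    have hW₂Q : cj a W₁ ≤ Q := by
      have := cj_mono a hW₁Q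
      rwa [cj_eq_of_mem_normalizer haQ] at this
    have haea : a⁻¹ * e * a = e := by rw [mul_assoc, ← hae]; group
    have e2 : ⁅a * y * a⁻¹, e⁆ = a * s * a⁻¹ * u := by
      rw [comm_conj, haea, ey]
      calc a * (s * u) * a⁻¹ = a * s * a⁻¹ * (a * u) * a⁻¹ := by group
        _ = a * s * a⁻¹ * (u * a) * a⁻¹ := by rw [ha_u]
        _ = _ := by group
    have hsV : s ∈ V := h.WV c hsW
    have hasV : a * s * a⁻¹ ∈ V := h.WV c ha_s
    have huV : u ∈ V := h.VcV c hu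
    have hyQ := hW₁Q hy
    have e3 : ⁅y * (a * y * a⁻¹), e⁆ = a * s * a⁻¹ * s := by
      rw [comm_mul_left (by
        rw [e2]
        exact mem_centralizer_iff.1 (h.QV hyQ) _ (mul_mem hasV huV)), e2, ey]
      have hu2 : u * u = 1 := by rw [← pow_two]; exact h.el.2 u huV
      calc a * s * a⁻¹ * u * (s * u) = a * s * a⁻¹ * (u * s) * u := by group
        _ = a * s * a⁻¹ * (s * u) * u := by rw [h.V_comm huV hsV]
        _ = a * s * a⁻¹ * s * (u * u) := by group
        _ = _ := by rw [hu2, mul_one]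
    set t := a * s * a⁻¹ * s with ht
    have hs2 : s * s = 1 := by rw [← pow_two]; exact h.el.2 s hsV
    have htZ : t ∈ Z c := by
      have e4 : t = (⁅s, a⁆)⁻¹ * (s * s) := by rw [ht, commutatorElement_def]; group
      rw [e4, hs2, mul_one]
      exact inv_mem (h.root c a haB s hsW)
    have ht1 : t ≠ 1 := by
      intro e4
      apply hs1
      apply htriv s hsZ hsW
      have h5 : a * s * a⁻¹ = s := by
        have h6 : a * s * a⁻¹ = s⁻¹ := eq_inv_of_mul_eq_one_left e4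
        rw [h6]
        exact inv_eq_of_mul_eq_one_left hs2
      calc a * s = a * s * a⁻¹ * a := by group
        _ = s * a := by rw [h5]
    have htZ₁ : t ∉ Z₁ := by
      intro h1
      obtain ⟨s', hs'l, hs'W, u', hu', e4⟩ := hmemZ₁ t h1
      have h5 := (h.eq_of_mul_eq (h.ZW c htZ) hs'W (one_mem _) hu' (by rw [mul_one]; exact e4)).1
      have h6 : t ∈ Z c ⊓ cj l (Z c) := ⟨htZ, h5 ▸ hs'l⟩
      rw [hlZ] at h6
      exact ht1 (mem_bot.1 h6)
    -- the group `X`
    set X := W₁ ⊔ cj a W₁ ⊔ V with hX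
    have hWWN : W₁ ⊔ cj a W₁ ≤ N i := sup_le hW₁N hW₂N
    have hXel : IsElementaryAbelian 2 X := PLocal.ElemAbSup.isElementaryAbelian_sup (el_mono (h.Nel i) hWWN) h.el
      (cent_symm (sup_le (hW₁Q.trans h.QV) (hW₂Q.trans h.QV)))
    have hXO : X ≤ O := sup_le (hWWN.trans (h.NO i)) h.VO
    have hXc := le_cent hXel
    have hVX : V ≤ X := le_sup_right
    have hW₁X : W₁ ≤ X := le_sup_left.trans le_sup_left
    have hr := rank_le (h.AO c) hXel hXO
    -- right side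
    set A₁ := A₀ ⊓ centralizer (W₁ : Set G) with hA₁
    have hA₁X : A₁ ≤ centralizer (X : Set G) := by
      apply cent_symm
      refine sup_le (sup_le (cent_symm inf_le_right) ?_) (cent_symm (inf_le_left.trans inf_le_right))
      rintro _ ⟨y, hy, rfl⟩
      rw [mem_centralizer_iff]
      intro g hg
      have h1 := mem_centralizer_iff.1 hg.2 y hy
      have h2 : a * g = g * a := (mem_centralizer_iff.1 (hAab ha) g hg.1.1).symm
      show g * (a * y * a⁻¹) = a * y * a⁻¹ * g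
      have h3 : g * a⁻¹ = a⁻¹ * g := by
        calc g * a⁻¹ = a⁻¹ * (a * g) * a⁻¹ := by group
          _ = a⁻¹ * (g * a) * a⁻¹ := by rw [h2]
          _ = _ := by group
      calc g * (a * y * a⁻¹) = g * a * y * a⁻¹ := by group
        _ = a * (g * y) * a⁻¹ := by rw [← h2]; group
        _ = a * y * (g * a⁻¹) := by rw [← h1]; group
        _ = _ := by rw [h3]; group
    have r1 : (centralizer (X : Set G)).relIndex (A c) ≤ A₁.relIndex (A c) :=
      relIndex_le_of_le_left hA₁X index_ne_zero_of_finite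
    have r2 := relIndex_mul_relIndex A₁ A₀ (A c) inf_le_left inf_le_left
    have r3 : A₀.relIndex (A c) = Nat.card (Z c) := by rw [hA₀, inf_relIndex_left, h.idxA c]
    have r4 : A₁.relIndex A₀ ≤ Nat.card (Z b) := by
      have h1 : A₁.relIndex A₀ ≤ (centralizer ({y₀} : Set G)).relIndex A₀ := by
        rw [← inf_relIndex_right (centralizer ({y₀} : Set G))]
        refine relIndex_le_of_le_left ?_ index_ne_zero_of_finite
        rintro g ⟨h2, h3⟩
        refine ⟨h3, mem_centralizer_iff.2 fun v hv => ?_⟩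
        by_contra hcon
        have hgy : g * y₀ = y₀ * g := mem_centralizer_singleton_iff.1 h2
        have h4 := h.fix_l hx hlQ (hA₀Q h3) hv (fun e => hcon e.symm) hy₀ hgy
        exact hne (h.Z_l hx hlQ heQ h4)
      refine h1.trans ((relIndex_cent_le (Z := Z₁) fun g hg => h.root_l hx hlQ (hA₀Q hg) hy₀).trans ?_)
      rw [hZ₁, card_cj, card_cj]
    have hR : (centralizer (X : Set G)).relIndex (A c) ≤ Nat.card (Z b) * Nat.card (Z c) := by
      refine r1.trans ?_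
      rw [← r2, r3]
      exact Nat.mul_le_mul_right _ r4
    -- left side
    set P := X ⊓ centralizer (A₀ : Set G) with hP
    set R := X ⊓ centralizer (A c : Set G) with hRdef
    have hRP : R ≤ P := inf_le_inf_left _ (centralizer_le inf_le_left)
    have l1 := relIndex_mul_relIndex R P X hRP inf_le_left
    have l2 : R.relIndex X = (centralizer (A c : Set G)).relIndex X := by rw [hRdef, inf_relIndex_left]
    have hVP : V ≤ P := le_inf hVX (cent_symm inf_le_right)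
    have l3 : Nat.card (Z c) ≤ R.relIndex P := by
      have h1 : R.relIndex P = (centralizer (A c : Set G)).relIndex P := by
        rw [← inf_relIndex_right R, ← inf_relIndex_right (centralizer (A c : Set G))]
        congr 1
        exact le_antisymm (inf_le_inf_right _ inf_le_right)
          (le_inf (le_inf (inf_le_right.trans inf_le_left) inf_le_left) inf_le_right)
      rw [h1, ← h.idxV c]
      exact relIndex_le_of_le_right hVP index_ne_zero_of_finite
    have l4 := relIndex_mul_relIndex P (W₁ ⊔ P) X le_sup_right (sup_le hW₁X inf_le_left)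
    have l5 : Nat.card (Z b) ≤ P.relIndex (W₁ ⊔ P) := by
      rw [relIndex_sup ((hW₁X.trans hXc).trans (centralizer_le inf_le_left)), ← h.card_l hx hlQ,
        ← inf_relIndex_right P]
      refine relIndex_le_of_le_left ?_ index_ne_zero_of_finite
      rintro v ⟨h1, h2⟩
      exact h.fix_l hx hlQ heQ hy₀ hne h2 (mem_centralizer_iff.1 h1.2 e he)
    have hy'X : y * (a * y * a⁻¹) ∈ X :=
      mul_mem (hW₁X hy) ((le_sup_right.trans le_sup_left : cj a W₁ ≤ X) ⟨y, hy, rfl⟩)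
    have hy'n : y * (a * y * a⁻¹) ∉ W₁ ⊔ P := by
      intro h1
      have h2 : y * (a * y * a⁻¹) ∈ ((W₁ ⊔ P : Subgroup G) : Set G) := h1
      rw [coe_mul_of_left_le_normalizer_right _ _ ((((hW₁X.trans hXc).trans
        (centralizer_le inf_le_left))).trans (centralizer_le_normalizer _))] at h2
      obtain ⟨v, hv, p, hp', e4⟩ := Set.mem_mul.mp h2
      have h5 : ⁅p, e⁆ = 1 := comm_eq_one.2 (mem_centralizer_iff.1 hp'.2 e he)
      apply htZ₁
      rw [← e3, ← e4, comm_mul_left (by rw [h5]; group), h5, one_mul]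
      exact h.root_l hx hlQ heQ hv
    have l6 : 2 ≤ (W₁ ⊔ P).relIndex X := by
      have h1 : (W₁ ⊔ P).relIndex X ≠ 1 := fun e4 => hy'n (relIndex_eq_one.1 e4 hy'X)
      have h2 : (W₁ ⊔ P).relIndex X ≠ 0 := index_ne_zero_of_finite
      omega
    have hL : Nat.card (Z c) * (Nat.card (Z b) * 2) ≤ Nat.card (Z b) * Nat.card (Z c) := by
      refine le_trans ?_ (hr.trans hR)
      rw [← l2, ← l1, ← l4]
      exact Nat.mul_le_mul l3 (Nat.mul_le_mul l5 l6)
    have p1 : 0 < Nat.card (Z c) := Nat.card_pos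
    have p2 : 0 < Nat.card (Z b) := Nat.card_pos
    nlinarith [Nat.mul_pos p1 p2]

/-! ### `(5)` -/

theorem eq_one_of_sup {s : Finset ι} {v : G} (hv : v ∈ s.sup W) (hc : ∀ e ∈ s, v ∈ Vc W e) : v = 1 := by
  classical
  induction s using Finset.induction_on with
  | empty =>
    rw [Finset.sup_empty] at hv
    exact mem_bot.1 hv
  | insert d s hd ih =>
    rw [Finset.sup_insert] at hv
    have hsV : s.sup W ≤ V := Finset.sup_le fun c _ => h.WV c
    have h1 : v ∈ ((W d ⊔ s.sup W : Subgroup G) : Set G) := hv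
    rw [coe_mul_of_left_le_normalizer_right _ _ (((h.WV d).trans ((le_cent h.el).trans
      (centralizer_le hsV))).trans (centralizer_le_normalizer _))] at h1
    obtain ⟨w, hw, v', hv', e⟩ := Set.mem_mul.mp h1
    have hsc : s.sup W ≤ Vc W d := Finset.sup_le fun c hcs => le_Vc (fun e => hd (e ▸ hcs))
    have h2 : w = 1 := by
      refine h.eq_one_of hw ?_
      have h3 : w = v * v'⁻¹ := by rw [← e]; group
      rw [h3]
      exact mul_mem (hc d (Finset.mem_insert_self _ _)) (inv_mem (hsc hv'))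
    have e' : v = v' := by
      rw [← e, h2]
      exact one_mul v'
    refine ih (by rw [e']; exact hv') fun c hcs => hc c (Finset.mem_insert_of_mem hcs)

/-- the dichotomy for one block -/
theorem good_or [Finite ι] {x : G} (hx : x ∈ normalizer (B : Set G)) (hxJ : cj x ZJ ≤ ZJ)
    (hxN : ∀ i, x ∈ normalizer (N i : Set G)) (c : ι) :
    (∃ d, side d = side c ∧ cj x (Z c) = Z d) ∨ ∀ e, side e = side c → cj x (Z c) ≤ Vc W e := by
  have hfin : (∃ d, cj x (Z c) = Z d) →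
      (∃ d, side d = side c ∧ cj x (Z c) = Z d) ∨ ∀ e, side e = side c → cj x (Z c) ≤ Vc W e := by
    rintro ⟨d, hd⟩
    by_cases hs : side d = side c
    · exact Or.inl ⟨d, hs, hd⟩
    · right
      intro e he
      rw [hd]
      refine (h.ZW d).trans (le_Vc ?_)
      rintro rfl
      exact hs he
  by_cases h1 : cj x (W c) ≤ centralizer (V : Set G)
  · by_cases h2 : ∀ e, side e = side c → cj x (Z c) ≤ Vc W e
    · exact Or.inr h2
    · push Not at h2
      obtain ⟨e, he, hn⟩ := h2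
      have hZJ : cj x (Z c) ≤ ZJ := by
        refine le_trans (cj_mono x ?_) hxJ
        rw [h.ZJ_eq]
        exact le_iSup Z c
      exact hfin (h.two hx (h.four hx he (hxN _) h1 hZJ hn))
  · exact hfin (h.one hx h1)

/-- the product of the centres on one side -/
def ZS {ι : Type*} (side : ι → Fin 2) (Z : ι → Subgroup G) (i : Fin 2) : Subgroup G :=
  ⨆ c : {c : ι // side c = i}, Z c

/-- **LEMMA PERM.** -/
theorem perm [Finite ι] {x : G} (hx : x ∈ normalizer (B : Set G)) (hxJ : cj x ZJ ≤ ZJ)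
    (hxN : ∀ i, x ∈ normalizer (N i : Set G)) (b : ι)
    (hz : ∃ z ∈ ZS side Z (side b), x * z * x⁻¹ = z ∧ ∀ c, side c = side b → z ∉ Vc W c) :
    ∃ c, side c = side b ∧ cj x (Z b) = Z c := by
  classical
  have := Fintype.ofFinite ι
  by_contra hbad
  obtain ⟨z, hzS, hxz, hzc⟩ := hz
  set i := side b with hi
  let Good : ι → Prop := fun c => ∃ d, side d = side c ∧ cj x (Z c) = Z d
  set Gd : Subgroup G := ⨆ c : {c : ι // side c = i ∧ Good c}, Z c with hGd
  set Bd : Subgroup G := ⨆ c : {c : ι // side c = i ∧ ¬ Good c}, Z c with hBd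
  have hle : ZS side Z i ≤ Gd ⊔ Bd := by
    refine iSup_le fun c => ?_
    by_cases hg : Good c
    · exact le_sup_of_le_left (le_iSup (fun c : {c : ι // side c = i ∧ Good c} => Z c) ⟨c, c.2, hg⟩)
    · exact le_sup_of_le_right (le_iSup (fun c : {c : ι // side c = i ∧ ¬ Good c} => Z c) ⟨c, c.2, hg⟩)
  have hGV : Gd ≤ V := iSup_le fun c => h.ZV c
  have hBV : Bd ≤ V := iSup_le fun c => h.ZV c
  have h1 : z ∈ ((Gd ⊔ Bd : Subgroup G) : Set G) := hle hzS
  rw [coe_mul_of_left_le_normalizer_right _ _ ((hGV.trans ((le_cent h.el).trans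
    (centralizer_le hBV))).trans (centralizer_le_normalizer _))] at h1
  obtain ⟨g, hg, d, hd, e⟩ := Set.mem_mul.mp h1
  have hGx : cj x Gd ≤ ZS side Z i := by
    rw [cj_le_iff]
    refine iSup_le fun c => ?_
    rw [← cj_le_iff]
    obtain ⟨d, hd, e⟩ := c.2.2
    rw [e]
    exact le_iSup (fun c : {c : ι // side c = i} => Z c) ⟨d, hd.trans c.2.1⟩
  have hBx : ∀ e, side e = i → cj x Bd ≤ Vc W e := by
    intro e he
    rw [cj_le_iff]
    refine iSup_le fun c => ?_
    rw [← cj_le_iff]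
    rcases h.good_or hx hxJ hxN c with h2 | h2
    · exact absurd h2 c.2.2
    · exact h2 e (he.trans c.2.1.symm)
  have hxg : x * g * x⁻¹ ∈ ZS side Z i := hGx ⟨g, hg, rfl⟩
  have hxd : x * d * x⁻¹ ∈ cj x Bd := ⟨d, hd, rfl⟩
  have h3 : x * d * x⁻¹ = (x * g * x⁻¹)⁻¹ * z := by
    rw [← hxz, ← e]; group
  have h4 : x * d * x⁻¹ ∈ ZS side Z i := by
    rw [h3]
    exact mul_mem (inv_mem hxg) hzS
  have h5 : x * d * x⁻¹ = 1 := by
    refine h.eq_one_of_sup (s := Finset.univ.filter fun c => side c = i) ?_ ?_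
    · refine (iSup_le fun c => ?_ : ZS side Z i ≤ (Finset.univ.filter fun c => side c = i).sup W) h4
      exact (h.ZW c).trans (Finset.le_sup (f := W) (Finset.mem_filter.2 ⟨Finset.mem_univ _, c.2⟩))
    · intro e he
      exact hBx e (Finset.mem_filter.1 he).2 hxd
  have h6 : d = 1 := by
    have : d = x⁻¹ * (x * d * x⁻¹) * x := by group
    rw [this, h5]; group
  rw [h6, mul_one] at e
  apply hzc b rfl
  rw [← e]
  refine (iSup_le fun c => ?_ : Gd ≤ Vc W b) hg
  refine (h.ZW c).trans (le_Vc ?_)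
  intro hcb
  have h7 : Good b := hcb ▸ c.2.2
  exact hbad h7

end PIn

end Cfsg.Agent.Omega.RW.Perm
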